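import Groth.Agent.Lib.OX.ProjClosed
import Groth.Agent.Lib.OX.LocFreeTensor
import Groth.Agent.Lib.ProjFormula.Flasque
import Groth.Agent.Lib.LocFreeDual20.Ext
import Groth.Agent.Lib.ClosedHom20.Basic
import Groth.Agent.Lib.ModSupp25.Derived
import Groth.Agent.Lib.GrothSS.HomExt
import Groth.Agent.Lib.SheafCoh.Derived
import Groth.Agent.Lib.HomRestrict20.Basic

/-!
# The right adjoint of `ι_*(E ⊗ -)` for a closed immersion `ι`
-/

set_option autoImplicit false
set_option maxHeartbeats 400000
set_option linter.style.haveILetI false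
set_option linter.unusedSectionVars false
set_option backward.isDefEq.respectTransparency false

universe u

open CategoryTheory CategoryTheory.Limits AlgebraicGeometry Opposite

namespace GrothLib.ChangeRings20

variable {X P : Scheme.{u}} (ι : X ⟶ P) (E : X.Modules)

/-- `N ↦ ι_*(N ⊗ E)`. -/
noncomputable def L : X.Modules ⥤ P.Modules :=
  (DCoh.tensorBi (X := X)).flip.obj E ⋙ Scheme.Modules.pushforward ι

variable [IsClosedImmersion ι] [ModSite.HasSheafHom (O := X.sheaf) E]

/-- `ι^!`. -/
noncomputable def shriek : P.Modules ⥤ X.Modules :=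
  haveI := OX.isLeftAdjoint_pushforward ι
  (Scheme.Modules.pushforward ι).rightAdjoint

/-- `ι_* ⊣ ι^!`. -/
noncomputable def shriekAdj : Scheme.Modules.pushforward ι ⊣ shriek ι :=
  haveI := OX.isLeftAdjoint_pushforward ι
  Adjunction.ofIsLeftAdjoint (Scheme.Modules.pushforward ι)

/-- The right adjoint of `ι_*(- ⊗ E)`. -/
noncomputable def Φ : P.Modules ⥤ X.Modules :=
  shriek ι ⋙ (ModSite.sheafHom (O := X.sheaf) E : X.Modules ⥤ X.Modules)

/-- The adjunction. -/
noncomputable def adj : L ι E ⊣ Φ ι E :=
  Adjunction.comp (ModSite.sheafHomAdj (O := X.sheaf) E :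
    (DCoh.tensorBi (X := X)).flip.obj E ⊣ (ModSite.sheafHom (O := X.sheaf) E : X.Modules ⥤ X.Modules))
    (shriekAdj ι)

instance additive_Φ : (Φ ι E).Additive :=
  have : Limits.PreservesLimitsOfSize.{0, 0} (Φ ι E) := (adj ι E).rightAdjoint_preservesLimits
  Functor.additive_of_preserves_binary_products _

/-- The natural projection formula. -/
noncomputable def projIso (A : X.Modules) :
    (DCoh.tensorBi (X := P)).flip.obj ((Scheme.Modules.pushforward ι).obj A) ≅
      Scheme.Modules.pullback ι ⋙ (DCoh.tensorBi (X := X)).flip.obj A ⋙ Scheme.Modules.pushforward ι :=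
  haveI := fun N => OX.isIso_projHom_closed ι N A
  NatIso.ofComponents (fun N => asIso (ProjFormula.projHom ι N A))
    (fun a => ProjFormula.projHom_natural ι a A)

/-- `ι_* Φ ≅ ℋom(ι_* E, -)`. -/
noncomputable def ΦPushIso [ModSite.HasSheafHom (O := P.sheaf) ((Scheme.Modules.pushforward ι).obj E)] :
    Φ ι E ⋙ Scheme.Modules.pushforward ι ≅
      (ModSite.sheafHom (O := P.sheaf) ((Scheme.Modules.pushforward ι).obj E) : P.Modules ⥤ P.Modules) :=
  (((Scheme.Modules.pullbackPushforwardAdjunction ι).comp (adj ι E)).ofNatIsoLeft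
    (projIso ι E).symm).rightAdjointUniq
      (ModSite.sheafHomAdj (O := P.sheaf) ((Scheme.Modules.pushforward ι).obj E))

theorem preservesMonomorphisms_L (hE : FlatMod.IsFinLocFree E) : (L ι E).PreservesMonomorphisms := by
  haveI := ProjFormula.preservesFiniteLimits_tensorBi_obj (OX.flat_of_isFinLocFree hE)
  haveI : PreservesFiniteLimits ((DCoh.tensorBi (X := X)).flip.obj E) :=
    preservesFiniteLimits_of_natIso ((OX.tensorBraiding (X := X)).app E).symm
  haveI : (Scheme.Modules.pushforward ι).PreservesMonomorphisms :=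
    Functor.preservesMonomorphisms_of_adjunction (Scheme.Modules.pullbackPushforwardAdjunction ι)
  haveI : ((DCoh.tensorBi (X := X)).flip.obj E).PreservesMonomorphisms := inferInstance
  exact Functor.preservesMonomorphisms_comp _ (Scheme.Modules.pushforward ι)

/-- `Φ` preserves injectives. -/
theorem injective_Φ (hE : FlatMod.IsFinLocFree E) (I : P.Modules) [Injective I] :
    Injective ((Φ ι E).obj I) := by
  haveI := preservesMonomorphisms_L ι E hE
  exact Injective.injective_of_adjoint (adj ι E) I

variable [HasInjectiveResolutions (ModSite.Mod P.sheaf)]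

/-- The derived functors of `Φ` are the Ext sheaves of `ι_* E`. -/
theorem nonempty_rightDerived_Φ_iso [ModSite.HasSheafHom (O := P.sheaf) ((Scheme.Modules.pushforward ι).obj E)]
    [HasInjectiveResolutions P.Modules] (G : P.Modules) (M : X.Modules) (q : ℕ)
    (hM : Nonempty ((Scheme.Modules.pushforward ι).obj M ≅
      (ModSite.extSh (O := P.sheaf) ((Scheme.Modules.pushforward ι).obj E) q).obj G)) :
    Nonempty (((Φ ι E).rightDerived q).obj G ≅ M) := by
  haveI := (ClosedHom20.full_faithful_pushforward ι).1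
  haveI := (ClosedHom20.full_faithful_pushforward ι).2
  haveI : (Scheme.Modules.pushforward ι).Additive :=
    (Scheme.Modules.pullbackPushforwardAdjunction ι).right_adjoint_additive
  haveI := OX.preservesHomology_pushforward ι
  obtain ⟨e⟩ := hM
  haveI hadd : (ModSite.sheafHom (O := P.sheaf) ((Scheme.Modules.pushforward ι).obj E)).Additive :=
    HomRestrict20.additive_sheafHom ((Scheme.Modules.pushforward ι).obj E)
  haveI : (ModSite.sheafHom (O := P.sheaf) ((Scheme.Modules.pushforward ι).obj E) :
      P.Modules ⥤ P.Modules).Additive := hadd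
  exact ⟨(Scheme.Modules.pushforward ι).preimageIso
    ((ModSupp25.rightDerivedPostIso (Φ ι E) (Scheme.Modules.pushforward ι) q).app G ≪≫
      (SheafCoh.rightDerivedCongr (ΦPushIso ι E) q).app G ≪≫ e.symm)⟩

/-- `F ⊗ E ≅ E ⊗ F`. -/
noncomputable def braid (F : X.Modules) : CohB1.tensorMod F E ≅ CohB1.tensorMod E F :=
  (((OX.tensorBraiding (X := X)).app E).app F : _)

/-- `Hom(F, Φ -) ≅ Hom(ι_*(E ⊗ F), -)`. -/
noncomputable def homΦIso (F : X.Modules) :
    Φ ι E ⋙ preadditiveCoyoneda.obj (op F) ≅
      preadditiveCoyoneda.obj (op ((Scheme.Modules.pushforward ι).obj (CohB1.tensorMod E F))) :=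
  haveI : (L ι E).Additive := (adj ι E).left_adjoint_additive
  haveI := additive_Φ ι E
  NatIso.ofComponents
    (fun G => (((adj ι E).homAddEquiv F G).symm).toAddCommGrpIso)
    (fun {G G'} g => by ext x; exact (adj ι E).homEquiv_naturality_right_symm x g) ≪≫
  preadditiveCoyoneda.mapIso ((Scheme.Modules.pushforward ι).mapIso (braid E F)).symm.op

/-- `ℋom(F, Φ -)` pushed forward is `ℋom(ι_*(E ⊗ F), -)`. -/
noncomputable def sheafHomΦIso (F : X.Modules) [ModSite.HasSheafHom (O := X.sheaf) F]
    [ModSite.HasSheafHom (O := P.sheaf) ((Scheme.Modules.pushforward ι).obj (CohB1.tensorMod E F))] :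
    Φ ι E ⋙ (ModSite.sheafHom (O := X.sheaf) F : X.Modules ⥤ X.Modules) ⋙ Scheme.Modules.pushforward ι ≅
      (ModSite.sheafHom (O := P.sheaf) ((Scheme.Modules.pushforward ι).obj (CohB1.tensorMod E F)) :
        P.Modules ⥤ P.Modules) :=
  (Functor.associator _ _ _).symm ≪≫
  ((((Scheme.Modules.pullbackPushforwardAdjunction ι).comp
      (ModSite.sheafHomAdj (O := X.sheaf) F :
        (DCoh.tensorBi (X := X)).flip.obj F ⊣ (ModSite.sheafHom (O := X.sheaf) F : X.Modules ⥤ X.Modules))).comp
      (adj ι E)).ofNatIsoLeft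
    (Functor.associator (Scheme.Modules.pullback ι) _ _ ≪≫
      Functor.isoWhiskerLeft (Scheme.Modules.pullback ι)
        ((Functor.associator _ _ _).symm ≪≫
          Functor.isoWhiskerRight (LocFreeDual20.flipCompIso F E ≪≫
            (DCoh.tensorBi (X := X)).flip.mapIso (braid E F)) (Scheme.Modules.pushforward ι)) ≪≫
      (projIso ι (CohB1.tensorMod E F)).symm)).rightAdjointUniq
        (ModSite.sheafHomAdj (O := P.sheaf) ((Scheme.Modules.pushforward ι).obj (CohB1.tensorMod E F)))

end GrothLib.ChangeRings20
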